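import Groth.Agent.EtLocal.K590.CplUnram
import Groth.Agent.Flat2F.FlatComp
import Mathlib.RingTheory.LocalRing.Module

/-!
# Étale local homomorphisms and completions
-/

set_option autoImplicit false
universe u

open IsLocalRing

namespace K590.CplEtale

open K590.CplUnram

variable {A B : Type u} [CommRing A] [CommRing B]
    [IsLocalRing A] [IsLocalRing B] [IsNoetherianRing A] [IsNoetherianRing B] [Algebra A B]
    [IsLocalHom (algebraMap A B)]
    {ψ : AdicCompletion (maximalIdeal A) A →+* AdicCompletion (maximalIdeal B) B}
    (hψ : ψ.comp (algebraMap A (AdicCompletion (maximalIdeal A) A)) =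
      (algebraMap B (AdicCompletion (maximalIdeal B) B)).comp (algebraMap A B))

include hψ

/-- `A → B` is flat iff the map on completions is flat. -/
theorem flat_iff : Module.Flat A B ↔ ψ.Flat := by
  have hloc := isLocalHom hψ
  have hN := Groth.Agent.Ega4A.CplFlat.isNoetherianRing_cpl B
  let := ψ.toAlgebra
  have : IsLocalHom (algebraMap (AdicCompletion (maximalIdeal A) A)
      (AdicCompletion (maximalIdeal B) B)) := hloc
  have h4 : IsScalarTower A B (AdicCompletion (maximalIdeal B) B) :=
    IsScalarTower.of_algebraMap_eq fun x => rfl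
  have h6 : IsScalarTower A (AdicCompletion (maximalIdeal A) A)
      (AdicCompletion (maximalIdeal B) B) :=
    IsScalarTower.of_algebraMap_eq fun x => (RingHom.congr_fun hψ x).symm
  constructor
  · intro h
    have h5 : Module.Flat A (AdicCompletion (maximalIdeal B) B) :=
      Module.Flat.trans A B (AdicCompletion (maximalIdeal B) B)
    exact Groth.Agent.Ega4A.CplFlat.flat_cpl_of_flat A (AdicCompletion (maximalIdeal B) B)
      (AdicCompletion (maximalIdeal B) B)
  · intro h
    have h7 : Module.Flat (AdicCompletion (maximalIdeal A) A)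
      (AdicCompletion (maximalIdeal B) B) := h
    have h8 : Module.Flat A (AdicCompletion (maximalIdeal B) B) :=
      Module.Flat.trans A (AdicCompletion (maximalIdeal A) A) _
    have hff : Module.FaithfullyFlat B (AdicCompletion (maximalIdeal B) B) :=
      Module.FaithfullyFlat.of_flat_of_isLocalHom
    exact Groth.Agent.Flat2F.FlatComp.flat_of_comp_faithfullyFlat A B
      (AdicCompletion (maximalIdeal B) B)

theorem etale_iff :
    (Module.Flat A B ∧ (maximalIdeal A).map (algebraMap A B) = maximalIdeal B ∧
        Module.Finite (ResidueField A) (ResidueField B) ∧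
        Algebra.IsSeparable (ResidueField A) (ResidueField B)) ↔ ψ.Etale := by
  rw [unramified_iff hψ, flat_iff hψ, RingHom.Etale.iff_flat_and_formallyUnramified]
  have hN := Groth.Agent.Ega4A.CplFlat.isNoetherianRing_cpl A
  constructor
  · rintro ⟨h1, h2, h3⟩
    exact ⟨h1, h3, RingHom.FinitePresentation.of_finiteType.mp h2⟩
  · rintro ⟨h1, h2, h3⟩
    exact ⟨h1, RingHom.FiniteType.of_finitePresentation h3, h2⟩

theorem free_of_etale (h : ψ.Etale) :
    letI := ψ.toAlgebra
    ∃ n : ℕ, 0 < n ∧
      Nonempty ((Fin n → AdicCompletion (maximalIdeal A) A) ≃ₗ[AdicCompletion (maximalIdeal A) A]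
            AdicCompletion (maximalIdeal B) B) := by
  have hN := Groth.Agent.Ega4A.CplFlat.isNoetherianRing_cpl A
  obtain ⟨h1, h2, h3, h4⟩ := (etale_iff hψ).mpr h
  have hfin := finite_of_unramified hψ h2 h3
  have hfl := (flat_iff hψ).mp h1
  let := ψ.toAlgebra
  have : Module.Finite (AdicCompletion (maximalIdeal A) A)
      (AdicCompletion (maximalIdeal B) B) := hfin
  have : Module.Flat (AdicCompletion (maximalIdeal A) A)
      (AdicCompletion (maximalIdeal B) B) := hfl
  have : Module.Free (AdicCompletion (maximalIdeal A) A)
      (AdicCompletion (maximalIdeal B) B) := Module.free_of_flat_of_isLocalRing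
  refine ⟨Module.finrank (AdicCompletion (maximalIdeal A) A)
      (AdicCompletion (maximalIdeal B) B), (Module.finrank_pos_iff_of_free _ _).mpr inferInstance, ?_⟩
  exact ⟨(Module.finBasis (AdicCompletion (maximalIdeal A) A)
      (AdicCompletion (maximalIdeal B) B)).equivFun.symm⟩

end K590.CplEtale
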