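import Mathlib.RingTheory.AdicCompletion.LocalRing
import Mathlib.RingTheory.Unramified.LocalRing
import Mathlib.RingTheory.RingHom.Etale
import Mathlib.RingTheory.RingHom.Unramified
import Groth.Agent.Ega4A.CplFlat
import Groth.Agent.Ega1.LimitSystem

/-!
# Unramified local homomorphisms and completions
-/

set_option autoImplicit false
universe u

open IsLocalRing

namespace K590.CplUnram

/-- Complete Nakayama for local rings. -/
theorem finite_of_map_maximalIdeal (R S : Type u) [CommRing R] [CommRing S] [IsLocalRing R]
    [IsLocalRing S] [Algebra R S] [IsLocalHom (algebraMap R S)] [IsAdicComplete (maximalIdeal R) R]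
    [IsHausdorff (maximalIdeal S) S] (h : (maximalIdeal R).map (algebraMap R S) = maximalIdeal S)
    [Module.Finite (ResidueField R) (ResidueField S)] : Module.Finite R S := by
  have h1 : IsHausdorff (maximalIdeal R) S := by
    rw [← IsHausdorff.map_algebraMap_iff (S := S), h]
    infer_instance
  apply Groth.Agent.Ega1.LimitSystem.finite_of_finite_quotient (I := maximalIdeal R)
  have h2 : Module.Finite R (ResidueField S) := Module.Finite.trans (ResidueField R) _
  have h3 : (maximalIdeal R • ⊤ : Submodule R S) = (maximalIdeal S).restrictScalars R := by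
    rw [Ideal.smul_top_eq_map, h]
  have h4 : Module.Finite R (S ⧸ maximalIdeal S) := h2
  exact Module.Finite.equiv ((Submodule.quotEquivOfEq _ _ h3).trans
    (Submodule.Quotient.restrictScalarsEquiv R (maximalIdeal S))).symm

variable {A B : Type u} [CommRing A] [CommRing B]
    [IsLocalRing A] [IsLocalRing B] [IsNoetherianRing A] [IsNoetherianRing B] [Algebra A B]
    [IsLocalHom (algebraMap A B)]
    {ψ : AdicCompletion (maximalIdeal A) A →+* AdicCompletion (maximalIdeal B) B}
    (hψ : ψ.comp (algebraMap A (AdicCompletion (maximalIdeal A) A)) =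
      (algebraMap B (AdicCompletion (maximalIdeal B) B)).comp (algebraMap A B))

include hψ

omit [IsNoetherianRing B] [IsLocalHom (algebraMap A B)] in
theorem map_maximalIdeal : (maximalIdeal (AdicCompletion (maximalIdeal A) A)).map ψ =
      ((maximalIdeal A).map (algebraMap A B)).map
        (algebraMap B (AdicCompletion (maximalIdeal B) B)) := by
  rw [AdicCompletion.maximalIdeal_eq_map, Ideal.map_map, hψ, Ideal.map_map]

theorem isLocalHom : IsLocalHom ψ := by
  apply ((IsLocalRing.local_hom_TFAE ψ).out 0 2).mpr
  rw [map_maximalIdeal hψ, AdicCompletion.maximalIdeal_eq_map]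
  exact Ideal.map_mono (IsLocalRing.map_maximalIdeal_le _)

omit [IsLocalHom (algebraMap A B)] in
theorem map_maximalIdeal_eq_iff : (maximalIdeal (AdicCompletion (maximalIdeal A) A)).map ψ =
      maximalIdeal (AdicCompletion (maximalIdeal B) B) ↔
        (maximalIdeal A).map (algebraMap A B) = maximalIdeal B := by
  have hff : Module.FaithfullyFlat B (AdicCompletion (maximalIdeal B) B) :=
    Module.FaithfullyFlat.of_flat_of_isLocalHom
  rw [map_maximalIdeal hψ, AdicCompletion.maximalIdeal_eq_map]
  constructor
  · intro h
    have h1 := congrArg (Ideal.comap (algebraMap B (AdicCompletion (maximalIdeal B) B))) h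
    rwa [Ideal.comap_map_eq_self_of_faithfullyFlat, Ideal.comap_map_eq_self_of_faithfullyFlat] at h1
  · intro h
    rw [h]

/-- Finiteness and separability of the residue field extension can be tested on completions. -/
theorem residue_iff [Algebra (AdicCompletion (maximalIdeal A) A)
      (AdicCompletion (maximalIdeal B) B)]
    [IsLocalHom (algebraMap (AdicCompletion (maximalIdeal A) A)
      (AdicCompletion (maximalIdeal B) B))]
    (h : algebraMap (AdicCompletion (maximalIdeal A) A) (AdicCompletion (maximalIdeal B) B) = ψ) :
    (Module.Finite (ResidueField A) (ResidueField B) ↔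
      Module.Finite (ResidueField (AdicCompletion (maximalIdeal A) A))
        (ResidueField (AdicCompletion (maximalIdeal B) B))) ∧
    (Algebra.IsSeparable (ResidueField A) (ResidueField B) ↔
      Algebra.IsSeparable (ResidueField (AdicCompletion (maximalIdeal A) A))
        (ResidueField (AdicCompletion (maximalIdeal B) B))) := by
  let e₁ : ResidueField A ≃+* ResidueField (AdicCompletion (maximalIdeal A) A) :=
    RingEquiv.ofBijective _ (AdicCompletion.residueField_map_bijective A)
  let e₂ : ResidueField B ≃+* ResidueField (AdicCompletion (maximalIdeal B) B) :=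
    RingEquiv.ofBijective _ (AdicCompletion.residueField_map_bijective B)
  have he : (algebraMap (ResidueField (AdicCompletion (maximalIdeal A) A))
        (ResidueField (AdicCompletion (maximalIdeal B) B))).comp e₁ =
      (e₂ : ResidueField B →+* _).comp (algebraMap (ResidueField A) (ResidueField B)) := by
    ext a
    obtain ⟨a, rfl⟩ := residue_surjective a
    change residue _ (algebraMap _ _ (algebraMap A _ a)) =
      residue _ (algebraMap B _ (algebraMap A B a))
    rw [h]
    congr 1
    exact RingHom.congr_fun hψ a
  refine ⟨⟨fun _ => Module.Finite.of_equiv_equiv e₁ e₂ he, fun _ => ?_⟩,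
    Algebra.IsSeparable.iff_of_equiv_equiv e₁ e₂ he⟩
  refine Module.Finite.of_equiv_equiv e₁.symm e₂.symm ?_
  ext a
  obtain ⟨a, rfl⟩ := e₁.surjective a
  apply e₂.injective
  have := RingHom.congr_fun he a
  simp only [RingHom.comp_apply, RingHom.coe_coe] at this ⊢
  rw [RingEquiv.symm_apply_apply, RingEquiv.apply_symm_apply, ← this]

/-- The map on completions is finite if `A → B` is unramified. -/
theorem finite_of_unramified (hm : (maximalIdeal A).map (algebraMap A B) = maximalIdeal B)
    (hf : Module.Finite (ResidueField A) (ResidueField B)) : ψ.Finite := by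
  have hloc := isLocalHom hψ
  let := ψ.toAlgebra
  have : IsLocalHom (algebraMap (AdicCompletion (maximalIdeal A) A)
      (AdicCompletion (maximalIdeal B) B)) := hloc
  have h1 := (residue_iff hψ rfl).1.mp hf
  exact finite_of_map_maximalIdeal _ _ ((map_maximalIdeal_eq_iff hψ).mpr hm)

/-- `A → B` is unramified iff the map on completions is finite type and formally unramified. -/
theorem unramified_iff :
    ((maximalIdeal A).map (algebraMap A B) = maximalIdeal B ∧
        Module.Finite (ResidueField A) (ResidueField B) ∧
        Algebra.IsSeparable (ResidueField A) (ResidueField B)) ↔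
      (ψ.FiniteType ∧ ψ.FormallyUnramified) := by
  constructor
  · rintro ⟨h1, h2, h3⟩
    have hfin := finite_of_unramified hψ h1 h2
    refine ⟨hfin.finiteType, ?_⟩
    have hloc := isLocalHom hψ
    let := ψ.toAlgebra
    have : IsLocalHom (algebraMap (AdicCompletion (maximalIdeal A) A)
      (AdicCompletion (maximalIdeal B) B)) := hloc
    have : Module.Finite (AdicCompletion (maximalIdeal A) A)
      (AdicCompletion (maximalIdeal B) B) := hfin
    have h4 := (residue_iff hψ rfl).2.mp h3
    exact Algebra.FormallyUnramified.of_map_maximalIdeal ((map_maximalIdeal_eq_iff hψ).mpr h1)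
  · rintro ⟨h1, h2⟩
    have hloc := isLocalHom hψ
    let := ψ.toAlgebra
    have : IsLocalHom (algebraMap (AdicCompletion (maximalIdeal A) A)
      (AdicCompletion (maximalIdeal B) B)) := hloc
    have : Algebra.FiniteType (AdicCompletion (maximalIdeal A) A)
      (AdicCompletion (maximalIdeal B) B) := h1
    have : Algebra.FormallyUnramified (AdicCompletion (maximalIdeal A) A)
      (AdicCompletion (maximalIdeal B) B) := h2
    have h3 := Algebra.FormallyUnramified.map_maximalIdeal
      (R := AdicCompletion (maximalIdeal A) A) (S := AdicCompletion (maximalIdeal B) B)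
    exact ⟨(map_maximalIdeal_eq_iff hψ).mp h3, (residue_iff hψ rfl).1.mpr inferInstance,
      (residue_iff hψ rfl).2.mpr inferInstance⟩

end K590.CplUnram
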