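import Groth.Agent.EtLocal.K590.EtGoodUnram
import Mathlib.AlgebraicGeometry.Morphisms.FlatMono
import Mathlib.AlgebraicGeometry.Morphisms.ClosedImmersion

/-!
# Families of opens splitting off the points over `x_i` after an étale localization
-/

set_option autoImplicit false
universe u

open AlgebraicGeometry CategoryTheory Limits

namespace K590.EtFam

open K590.EtGood

variable {X S U U' : Scheme.{u}} {ι : Type}

/-- A family of opens of `X ×_S U` labelled by the indices of the points `x i`, splitting off the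
points over the `x i` and over `u`. -/
structure MFam (f : X ⟶ S) (x : ι → X) (g : U ⟶ S) (u : U) {K : Type} (lab : K → ι)
    (V : K → (pullback f g).Opens) : Prop where
  exists_mem : ∀ k, ∃ w : ↑(pullback f g), w ∈ V k ∧ pullback.snd f g w = u
  fst_eq : ∀ (k : K) (w : ↑(pullback f g)), w ∈ V k → pullback.snd f g w = u →
      pullback.fst f g w = x (lab k)
  eq_of_mem : ∀ (k k' : K) (w : ↑(pullback f g)), w ∈ V k → w ∈ V k' →
    pullback.snd f g w = u → k = k'
  cover : ∀ (w : ↑(pullback f g)) (i : ι), pullback.snd f g w = u → pullback.fst f g w = x i →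
    ∃ k, lab k = i ∧ w ∈ V k

variable {f : X ⟶ S} {x : ι → X} {g : U ⟶ S} {u : U} {K : Type} {lab : K → ι}
    {V : K → (pullback f g).Opens}

lemma isPullback_restrict (f : X ⟶ S) (g : U ⟶ S) (h : U' ⟶ U) (V : (pullback f g).Opens) :
    IsPullback (bc f g h ∣_ V) ((bc f g h ⁻¹ᵁ V).ι ≫ pullback.snd f (h ≫ g))
      (V.ι ≫ pullback.snd f g) h :=
  (isPullback_morphismRestrict (bc f g h) V).flip.paste_horiz (isPullback_bc f g h).flip |>.flip

lemma of_restrict {P : MorphismProperty Scheme.{u}} [P.IsStableUnderBaseChange] (h : U' ⟶ U)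
    (V : (pullback f g).Opens) (H : P (V.ι ≫ pullback.snd f g)) :
    P ((bc f g h ⁻¹ᵁ V).ι ≫ pullback.snd f (h ≫ g)) :=
  MorphismProperty.of_isPullback (P := P) (isPullback_restrict f g h V) H

lemma MFam.refine (H : MFam f x g u lab V) (h : U' ⟶ U) (u' : U') (hu : h u' = u) :
    MFam f x (h ≫ g) u' lab (fun k => bc f g h ⁻¹ᵁ V k) := by
  have hπ := isPullback_bc f g h
  have hsnd : ∀ w : ↑(pullback f (h ≫ g)), pullback.snd f (h ≫ g) w = u' →
      pullback.snd f g (bc f g h w) = u := by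
    intro w hw
    rw [← Scheme.Hom.comp_apply, bc_snd, Scheme.Hom.comp_apply, hw, hu]
  refine ⟨?_, ?_, ?_, ?_⟩
  · intro k
    obtain ⟨w, hw, hwu⟩ := H.exists_mem k
    obtain ⟨w', hw'1, hw'2⟩ := exists_point hπ w u' (by rw [hwu, hu])
    exact ⟨w', by change bc f g h w' ∈ V k; rw [hw'1]; exact hw, hw'2⟩
  · intro k w hw hwu
    rw [← bc_fst, Scheme.Hom.comp_apply]
    exact H.fst_eq k _ hw (hsnd w hwu)
  · intro k k' w hw hw' hwu
    exact H.eq_of_mem k k' _ hw hw' (hsnd w hwu)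
  · intro w i hwu hwx
    rw [← bc_fst, Scheme.Hom.comp_apply] at hwx
    exact H.cover _ i (hsnd w hwu) hwx

/-- From single points to families. -/
theorem exists_mfam {P : MorphismProperty Scheme.{u}} [P.IsStableUnderBaseChange] [Finite ι]
    (f : X ⟶ S) (s : S) (x : ι → X) (hinj : Function.Injective x)
    (H : ∀ i, ∃ (U : Scheme.{u}) (g : U ⟶ S) (u : U), Etale g ∧ g u = s ∧ Good P f (x i) g u) :
    ∃ (U : Scheme.{u}) (g : U ⟶ S) (u : U), Etale g ∧ g u = s ∧
      ∃ (K : Type) (_ : Finite K) (lab : K → ι) (V : K → (pullback f g).Opens),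
        MFam f x g u lab V ∧ ∀ k, P ((V k).ι ≫ pullback.snd f g) := by
  obtain ⟨U, g, u, hg, hgu, H⟩ := exists_forall (fun _ => f) s x H
  choose K hK V h1 h2 h3 h4 h5 using H
  refine ⟨U, g, u, hg, hgu, Σ i, K i, inferInstance, Sigma.fst, fun k => V k.1 k.2,
    ⟨?_, ?_, ?_, ?_⟩, ?_⟩
  · rintro ⟨i, k⟩
    exact h2 i k
  · rintro ⟨i, k⟩ w hw hwu
    exact h3 i k w hw hwu
  · rintro ⟨i, k⟩ ⟨i', k'⟩ w hw hw' hwu
    obtain rfl : i = i' := hinj ((h3 i k w hw hwu).symm.trans (h3 i' k' w hw' hwu))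
    obtain rfl := h4 i k k' w hw hw' hwu
    rfl
  · intro w i hwu hwx
    obtain ⟨k, hk⟩ := h5 i w hwu hwx
    exact ⟨⟨i, k⟩, rfl, hk⟩
  · rintro ⟨i, k⟩
    exact h1 i k

/-- Shrinking around `u` so that étale closed immersions become isomorphisms. -/
theorem MFam.exists_isIso [Finite K] (H : MFam f x g u lab V)
    (hV : ∀ k, IsOpenImmersion ((V k).ι ≫ pullback.snd f g)) :
    ∃ (O : U.Opens) (hu : u ∈ O),
      ∀ k, IsIso ((bc f g O.ι ⁻¹ᵁ V k).ι ≫ pullback.snd f (O.ι ≫ g)) := by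
  let R : K → U.Opens := fun k => ((V k).ι ≫ pullback.snd f g).opensRange
  have hR : ∀ k, u ∈ R k := by
    intro k
    obtain ⟨w, hw, hwu⟩ := H.exists_mem k
    let w' : (V k : Scheme.{u}) := ⟨w, hw⟩
    exact ⟨w', (Scheme.Hom.comp_apply (V k).ι (pullback.snd f g) w').trans hwu⟩
  let O : U.Opens := ⨅ k, R k
  have hO : ∀ y : U, y ∈ O ↔ ∀ k, y ∈ R k := by
    intro y
    have : (O : Set U) = ⋂ k, (R k : Set U) := TopologicalSpace.Opens.coe_iInf R
    rw [← SetLike.mem_coe, this, Set.mem_iInter]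
    rfl
  refine ⟨O, (hO u).mpr hR, fun k => ?_⟩
  have h1 : IsOpenImmersion ((bc f g O.ι ⁻¹ᵁ V k).ι ≫ pullback.snd f (O.ι ≫ g)) :=
    of_restrict (P := @IsOpenImmersion) O.ι (V k) (hV k)
  have h2 : Surjective ((bc f g O.ι ⁻¹ᵁ V k).ι ≫ pullback.snd f (O.ι ≫ g)) := by
    constructor
    intro y
    obtain ⟨z, hz⟩ := (hO y.1).mp y.2 k
    obtain ⟨w, -, hw⟩ := exists_point (isPullback_restrict f g O.ι (V k)) z y hz
    exact ⟨w, hw⟩
  exact (isIso_iff_isOpenImmersion_and_epi_base _).mpr ⟨h1, by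
    rw [TopCat.epi_iff_surjective]
    exact h2.1⟩

end K590.EtFam
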