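import Groth.Agent.EtLocal.K590.EtFam

/-!
# Splitting off points after an étale localization: existence and the separated case
-/

set_option autoImplicit false
universe u

open AlgebraicGeometry CategoryTheory Limits

namespace K590.EtFam

open K590.EtGood

variable {X S U U' : Scheme.{u}} {ι : Type}

/-- The property of being an étale closed immersion. -/
def EtClosed : MorphismProperty Scheme.{u} := @IsClosedImmersion ⊓ @Etale

instance : EtClosed.{u}.IsStableUnderBaseChange :=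
  MorphismProperty.IsStableUnderBaseChange.inf

instance : EtClosed.{u}.RespectsIso :=
  MorphismProperty.IsStableUnderBaseChange.respectsIso

theorem exists_good (f : X ⟶ S) (x : X)
    (hx : ∃ W : X.Opens, x ∈ W ∧ LocallyOfFiniteType (W.ι ≫ f) ∧ FormallyUnramified (W.ι ≫ f)) :
    ∃ (U : Scheme.{u}) (g : U ⟶ S) (u : U), Etale g ∧ g u = f x ∧
      Good @IsClosedImmersion f x g u := by
  obtain ⟨W, hxW, h1, h2⟩ := hx
  obtain ⟨U, g, u, hg, hgu, H⟩ := exists_good_of_unramified (W.ι ≫ f) ⟨x, hxW⟩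
  exact ⟨U, g, u, hg, hgu, H.of_open W x hxW⟩

theorem exists_good_etale (f : X ⟶ S) (x : X) (hx : ∃ W : X.Opens, x ∈ W ∧ Etale (W.ι ≫ f)) :
    ∃ (U : Scheme.{u}) (g : U ⟶ S) (u : U), Etale g ∧ g u = f x ∧ Good EtClosed f x g u := by
  obtain ⟨W, hxW, h1⟩ := hx
  obtain ⟨U, g, u, hg, hgu, K, hK, V, e1, e2, e3, e4, e5⟩ :=
    exists_good_of_unramified (W.ι ≫ f) ⟨x, hxW⟩
  have H : Good EtClosed (W.ι ≫ f) ⟨x, hxW⟩ g u :=
    ⟨K, hK, V, fun k => ⟨e1 k, inferInstanceAs (Etale _)⟩, e2, e3, e4, e5⟩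
  exact ⟨U, g, u, hg, hgu, H.of_open W x hxW⟩

variable {f : X ⟶ S} {x : ι → X} {g : U ⟶ S} {u : U} {K : Type} {lab : K → ι}
    {V : K → (pullback f g).Opens}

/-- If `f` is separated the opens which are closed in `U` are closed in `X ×_S U`. -/
lemma isClosed_of_isClosedImmersion [IsSeparated f] (V : (pullback f g).Opens)
    (hV : IsClosedImmersion (V.ι ≫ pullback.snd f g)) : IsClosed (V : Set ↑(pullback f g)) := by
  have h1 : IsSeparated (pullback.snd f g) := inferInstance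
  have h2 : IsClosedImmersion V.ι := IsClosedImmersion.of_comp V.ι (pullback.snd f g)
  have h3 := V.ι.isClosedEmbedding.isClosed_range
  rwa [Scheme.Opens.range_ι] at h3

/-- Shrinking around `u` so that the opens become pairwise disjoint. -/
theorem MFam.exists_disjoint [IsSeparated f] [Finite K] (H : MFam f x g u lab V)
    (hV : ∀ k, IsClosedImmersion ((V k).ι ≫ pullback.snd f g)) :
    ∃ (O : U.Opens) (_ : u ∈ O), ∀ k k', k ≠ k' →
      Disjoint (bc f g O.ι ⁻¹ᵁ V k) (bc f g O.ι ⁻¹ᵁ V k') := by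
  let Z : K × K → Set U := fun k => {y | k.1 ≠ k.2 ∧ ∃ w : ↑(pullback f g), w ∈ V k.1 ∧ w ∈ V k.2 ∧
    pullback.snd f g w = y}
  have hZ : ∀ k, IsClosed (Z k) := by
    rintro ⟨k, k'⟩
    by_cases hk : k = k'
    · have : Z (k, k') = ∅ := by
        ext y
        simp [Z, hk]
      rw [this]
      exact isClosed_empty
    · have h1 : IsClosedMap ((V k).ι ≫ pullback.snd f g) :=
        ((V k).ι ≫ pullback.snd f g).isClosedEmbedding.isClosedMap
      have h2 : IsClosed ((V k).ι ⁻¹' (V k' : Set ↑(pullback f g))) :=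
        (isClosed_of_isClosedImmersion (V k') (hV k')).preimage (V k).ι.continuous
      have h3 := h1 _ h2
      convert h3 using 1
      ext y
      constructor
      · rintro ⟨-, w, hw, hw', rfl⟩
        let w' : (V k : Scheme.{u}) := ⟨w, hw⟩
        exact ⟨w', hw', Scheme.Hom.comp_apply (V k).ι (pullback.snd f g) w'⟩
      · rintro ⟨w, hw, rfl⟩
        exact ⟨hk, (V k).ι w, w.2, hw, (Scheme.Hom.comp_apply _ _ _).symm⟩
  let O : U.Opens := ⟨(⋃ k, Z k)ᶜ, (isClosed_iUnion_of_finite hZ).isOpen_compl⟩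
  refine ⟨O, ?_, ?_⟩
  · rintro ⟨_, ⟨⟨k, k'⟩, rfl⟩, hk, w, hw, hw', hwu⟩
    exact hk (H.eq_of_mem k k' w hw hw' hwu)
  · intro k k' hk
    rw [disjoint_iff, eq_bot_iff]
    rintro w ⟨hw, hw'⟩
    have h1 : pullback.snd f g (bc f g O.ι w) = O.ι (pullback.snd f (O.ι ≫ g) w) := by
      rw [← Scheme.Hom.comp_apply, bc_snd, Scheme.Hom.comp_apply]
    have h2 : O.ι (pullback.snd f (O.ι ≫ g) w) ∈ O := (pullback.snd f (O.ι ≫ g) w).2
    exact (h2 (Set.mem_iUnion.mpr ⟨(k, k'), hk, bc f g O.ι w, hw, hw', h1⟩)).elim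

/-- The complement of the union of the opens. -/
theorem exists_compl [IsSeparated f] [Finite K]
    (hV : ∀ k, IsClosedImmersion ((V k).ι ≫ pullback.snd f g)) :
    ∃ W : (pullback f g).Opens, W ⊔ (⨆ k, V k) = ⊤ ∧ (∀ k, Disjoint W (V k)) ∧
      (∀ w, w ∈ W → ∀ k, w ∉ V k) := by
  let W : (pullback f g).Opens := ⟨(⋃ k, (V k : Set ↑(pullback f g)))ᶜ,
    (isClosed_iUnion_of_finite fun k => isClosed_of_isClosedImmersion (V k) (hV k)).isOpen_compl⟩
  have h3 : ∀ w, w ∈ W → ∀ k, w ∉ V k := by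
    intro w hw k hk
    exact hw (Set.mem_iUnion.mpr ⟨k, hk⟩)
  refine ⟨W, ?_, ?_, h3⟩
  · rw [eq_top_iff]
    rintro w -
    by_cases hw : w ∈ W
    · exact TopologicalSpace.Opens.mem_sup.mpr (Or.inl hw)
    · refine TopologicalSpace.Opens.mem_sup.mpr (Or.inr ?_)
      obtain ⟨k, hk⟩ := Set.mem_iUnion.mp (not_not.mp hw)
      exact TopologicalSpace.Opens.mem_iSup.mpr ⟨k, hk⟩
  · intro k
    rw [disjoint_iff, eq_bot_iff]
    rintro w ⟨hw, hw'⟩
    exact (h3 w hw k hw').elim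

end K590.EtFam
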