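import Groth.Agent.Flat2D.EtNbhd5
import Mathlib.AlgebraicGeometry.Morphisms.ClosedImmersion
import Mathlib.AlgebraicGeometry.Morphisms.Etale

/-!
# Splitting off the points over `x` after an étale localization
-/

set_option autoImplicit false
universe u

open AlgebraicGeometry CategoryTheory Limits

namespace K590.EtGood

variable {X S U U' : Scheme.{u}}

/-- The map `X ×_S U' ⟶ X ×_S U`. -/
noncomputable def bc (f : X ⟶ S) (g : U ⟶ S) (h : U' ⟶ U) :
    pullback f (h ≫ g) ⟶ pullback f g :=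
  pullback.map _ _ _ _ (𝟙 _) h (𝟙 _) (by simp) (by simp)

@[reassoc]
lemma bc_fst (f : X ⟶ S) (g : U ⟶ S) (h : U' ⟶ U) :
    bc f g h ≫ pullback.fst f g = pullback.fst f (h ≫ g) := by
  simp only [bc, pullback.map, pullback.lift_fst, Category.comp_id]

@[reassoc]
lemma bc_snd (f : X ⟶ S) (g : U ⟶ S) (h : U' ⟶ U) :
    bc f g h ≫ pullback.snd f g = pullback.snd f (h ≫ g) ≫ h := by
  simp only [bc, pullback.map, pullback.lift_snd]

lemma isPullback_bc (f : X ⟶ S) (g : U ⟶ S) (h : U' ⟶ U) :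
    IsPullback (bc f g h) (pullback.snd f (h ≫ g)) (pullback.snd f g) h := by
  refine IsPullback.of_right (h₁₂ := pullback.fst f g) (v₁₃ := f) (h₂₂ := g) ?_ ?_ ?_
  · rw [bc_fst]
    exact IsPullback.of_hasPullback f (h ≫ g)
  · exact bc_snd f g h
  · exact IsPullback.of_hasPullback f g

lemma exists_point {P X Y Z : Scheme.{u}} {a : P ⟶ X} {b : P ⟶ Y} {f : X ⟶ Z} {g : Y ⟶ Z}
    (h : IsPullback a b f g) (x : X) (y : Y) (e : f x = g y) : ∃ z : P, a z = x ∧ b z = y := by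
  obtain ⟨z, h1, h2⟩ := Scheme.Pullback.exists_preimage_pullback x y e
  refine ⟨h.isoPullback.inv z, ?_, ?_⟩
  · rw [← Scheme.Hom.comp_apply, h.isoPullback_inv_fst]; exact h1
  · rw [← Scheme.Hom.comp_apply, h.isoPullback_inv_snd]; exact h2

/-- `Good P f x g u`: after base change along `g : U ⟶ S` there are finitely many opens of
`X ×_S U` whose projections to `U` have `P`, each containing a point over `u`, all whose points
over `u` lie over `x`, no two of them having a common point over `u`, and which contain all points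
over `(x, u)`. -/
def Good (P : MorphismProperty Scheme.{u}) (f : X ⟶ S) (x : X) (g : U ⟶ S) (u : U) : Prop :=
  ∃ (K : Type) (_ : Finite K) (V : K → (pullback f g).Opens),
    (∀ k, P ((V k).ι ≫ pullback.snd f g)) ∧
    (∀ k, ∃ w : ↑(pullback f g), w ∈ V k ∧ pullback.snd f g w = u) ∧
    (∀ (k : K) (w : ↑(pullback f g)), w ∈ V k → pullback.snd f g w = u →
      pullback.fst f g w = x) ∧
    (∀ (k k' : K) (w : ↑(pullback f g)), w ∈ V k → w ∈ V k' → pullback.snd f g w = u → k = k') ∧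
    (∀ w : ↑(pullback f g), pullback.snd f g w = u → pullback.fst f g w = x → ∃ k, w ∈ V k)

lemma Good.refine {P : MorphismProperty Scheme.{u}} [P.IsStableUnderBaseChange] {f : X ⟶ S} {x : X}
    {g : U ⟶ S} {u : U} (H : Good P f x g u) (h : U' ⟶ U) (u' : U') (hu : h u' = u) :
    Good P f x (h ≫ g) u' := by
  obtain ⟨K, hK, V, h1, h2, h3, h4, h5⟩ := H
  have hπ := isPullback_bc f g h
  have hsnd : ∀ w : ↑(pullback f (h ≫ g)), pullback.snd f (h ≫ g) w = u' →
      pullback.snd f g (bc f g h w) = u := by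
    intro w hw
    rw [← Scheme.Hom.comp_apply, bc_snd, Scheme.Hom.comp_apply, hw, hu]
  refine ⟨K, hK, fun k => bc f g h ⁻¹ᵁ V k, ?_, ?_, ?_, ?_, ?_⟩
  · intro k
    have hp : IsPullback (bc f g h ∣_ V k) ((bc f g h ⁻¹ᵁ V k).ι ≫ pullback.snd f (h ≫ g))
        ((V k).ι ≫ pullback.snd f g) h :=
      (isPullback_morphismRestrict (bc f g h) (V k)).flip.paste_horiz hπ.flip |>.flip
    exact MorphismProperty.of_isPullback (P := P) hp (h1 k)
  · intro k
    obtain ⟨w, hw, hwu⟩ := h2 k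
    obtain ⟨w', hw'1, hw'2⟩ := exists_point hπ w u' (by rw [hwu, hu])
    exact ⟨w', by change bc f g h w' ∈ V k; rw [hw'1]; exact hw, hw'2⟩
  · intro k w hw hwu
    rw [← bc_fst, Scheme.Hom.comp_apply]
    exact h3 k _ hw (hsnd w hwu)
  · intro k k' w hw hw' hwu
    exact h4 k k' _ hw hw' (hsnd w hwu)
  · intro w hwu hwx
    rw [← bc_fst, Scheme.Hom.comp_apply] at hwx
    exact h5 _ (hsnd w hwu) hwx

/-- Good neighbourhoods of an open subscheme are good neighbourhoods. -/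
lemma Good.of_open {P : MorphismProperty Scheme.{u}} [P.RespectsIso] {f : X ⟶ S} (W : X.Opens)
    (x : X) (hx : x ∈ W) {g : U ⟶ S} {u : U} (H : Good P (W.ι ≫ f) ⟨x, hx⟩ g u) :
    Good P f x g u := by
  obtain ⟨K, hK, V, h1, h2, h3, h4, h5⟩ := H
  let j : pullback (W.ι ≫ f) g ⟶ pullback f g :=
    pullback.map _ _ _ _ W.ι (𝟙 _) (𝟙 _) (by simp) (by simp)
  have hjf : j ≫ pullback.fst f g = pullback.fst (W.ι ≫ f) g ≫ W.ι := by
    simp only [j, pullback.map, pullback.lift_fst]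
  have hjs : j ≫ pullback.snd f g = pullback.snd (W.ι ≫ f) g := by
    simp only [j, pullback.map, pullback.lift_snd, Category.comp_id]
  have hj : IsPullback j (pullback.fst (W.ι ≫ f) g) (pullback.fst f g) W.ι := by
    refine IsPullback.of_right (h₁₂ := pullback.snd f g) (v₁₃ := g) (h₂₂ := f) ?_ hjf ?_
    · rw [hjs]
      exact (IsPullback.of_hasPullback (W.ι ≫ f) g).flip
    · exact (IsPullback.of_hasPullback f g).flip
  have hjo : IsOpenImmersion j := MorphismProperty.of_isPullback (P := @IsOpenImmersion) hj.flip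
    inferInstance
  refine ⟨K, hK, fun k => j ''ᵁ V k, ?_, ?_, ?_, ?_, ?_⟩
  · intro k
    have e : (j.isoImage (V k)).hom ≫ (j ''ᵁ V k).ι ≫ pullback.snd f g =
        (V k).ι ≫ pullback.snd (W.ι ≫ f) g := by
      rw [Scheme.Hom.isoImage_hom_ι_assoc, hjs]
    rw [← MorphismProperty.cancel_left_of_respectsIso P (j.isoImage (V k)).hom, e]
    exact h1 k
  · intro k
    obtain ⟨w, hw, hwu⟩ := h2 k
    refine ⟨j w, ⟨w, hw, rfl⟩, ?_⟩
    rw [← Scheme.Hom.comp_apply, hjs, hwu]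
  · rintro k w₀ ⟨w, hw, hjw⟩ hwu
    change j w = w₀ at hjw
    subst hjw
    rw [← Scheme.Hom.comp_apply, hjs] at hwu
    rw [← Scheme.Hom.comp_apply, hjf, Scheme.Hom.comp_apply, h3 k w hw hwu]
    rfl
  · rintro k k' w₀ ⟨w, hw, hjw⟩ ⟨w', hw', hww'⟩ hwu
    change j w = w₀ at hjw
    subst hjw
    change j w' = j w at hww'
    rw [← Scheme.Hom.comp_apply, hjs] at hwu
    obtain rfl := j.isOpenEmbedding.injective hww'
    exact h4 k k' w' hw hw' hwu
  · intro w hwu hwx
    obtain ⟨w', hw'1, hw'2⟩ := exists_point hj w (⟨x, hx⟩ : W) hwx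
    subst hw'1
    rw [← Scheme.Hom.comp_apply, hjs] at hwu
    obtain ⟨k, hk⟩ := h5 w' hwu hw'2
    exact ⟨k, w', hk, rfl⟩

/-- Common refinement of two pointed étale schemes over `S`. -/
lemma exists_common {U₁ U₂ : Scheme.{u}} {g₁ : U₁ ⟶ S} {g₂ : U₂ ⟶ S} {u₁ : U₁} {u₂ : U₂}
    (h₁ : Etale g₁) (h₂ : Etale g₂) (e : g₁ u₁ = g₂ u₂) :
    ∃ (U : Scheme.{u}) (a : U ⟶ U₁) (b : U ⟶ U₂) (u : U), a ≫ g₁ = b ≫ g₂ ∧
      Etale a ∧ Etale b ∧ a u = u₁ ∧ b u = u₂ := by
  obtain ⟨u, hu1, hu2⟩ := exists_point (IsPullback.of_hasPullback g₁ g₂) u₁ u₂ e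
  exact ⟨pullback g₁ g₂, pullback.fst _ _, pullback.snd _ _, u, pullback.condition,
    inferInstance, inferInstance, hu1, hu2⟩

/-- Finitely many points can be treated simultaneously. -/
theorem exists_forall {P : MorphismProperty Scheme.{u}} [P.IsStableUnderBaseChange] {ι : Type*}
    [Finite ι] {X : ι → Scheme.{u}} (f : ∀ i, X i ⟶ S) (s : S) (x : ∀ i, X i)
    (H : ∀ i, ∃ (U : Scheme.{u}) (g : U ⟶ S) (u : U), Etale g ∧ g u = s ∧ Good P (f i) (x i) g u) :
    ∃ (U : Scheme.{u}) (g : U ⟶ S) (u : U), Etale g ∧ g u = s ∧ ∀ i, Good P (f i) (x i) g u := by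
  classical
  have := Fintype.ofFinite ι
  suffices H : ∀ T : Finset ι, ∃ (U : Scheme.{u}) (g : U ⟶ S) (u : U), Etale g ∧ g u = s ∧
      ∀ i ∈ T, Good P (f i) (x i) g u by
    obtain ⟨U, g, u, h1, h2, h3⟩ := H Finset.univ
    exact ⟨U, g, u, h1, h2, fun i => h3 i (Finset.mem_univ i)⟩
  intro T
  induction T using Finset.induction_on with
  | empty => exact ⟨S, 𝟙 S, s, inferInstance, rfl, by simp⟩
  | insert i T hi ih =>
    obtain ⟨U, g, u, h1, h2, h3⟩ := ih
    obtain ⟨U', g', u', h1', h2', h3'⟩ := H i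
    obtain ⟨W, a, b, w, hw, ha, hb, haw, hbw⟩ := exists_common h1 h1' (h2.trans h2'.symm)
    refine ⟨W, a ≫ g, w, inferInstance, ?_, ?_⟩
    · rw [Scheme.Hom.comp_apply, haw, h2]
    · intro j hj
      rw [Finset.mem_insert] at hj
      rcases hj with rfl | hj
      · rw [hw]
        exact h3'.refine b w hbw
      · exact (h3 j hj).refine a w haw

end K590.EtGood
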