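import Groth.Agent.EtLocal.K590.EtGood
import Groth.Agent.Etbase.UnramSplitScheme
import Mathlib.RingTheory.Unramified.LocalStructure
import Mathlib.AlgebraicGeometry.Limits

/-!
# Splitting off the points over `x` after an étale localization: the unramified case
-/

set_option autoImplicit false
universe u

open AlgebraicGeometry CategoryTheory Limits

namespace K590.EtGood

variable {X S : Scheme.{u}}

lemma quasiFiniteAt_of_unramified (f : X ⟶ S) [LocallyOfFiniteType f] [FormallyUnramified f]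
    (x : X) : f.QuasiFiniteAt x := by
  have h1 : (f.stalkMap x).hom.EssFiniteType := LocallyOfFiniteType.stalkMap f x
  have h2 : (f.stalkMap x).hom.FormallyUnramified := FormallyUnramified.stalkMap f x
  let := (f.stalkMap x).hom.toAlgebra
  have h3 : Algebra.EssFiniteType (S.presheaf.stalk (f x)) (X.presheaf.stalk x) := h1
  have h4 : Algebra.FormallyUnramified (S.presheaf.stalk (f x)) (X.presheaf.stalk x) := h2
  have h5 : Algebra.QuasiFinite (S.presheaf.stalk (f x)) (X.presheaf.stalk x) := inferInstance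
  exact h5

lemma exists_sigma {n : ℕ} (Y : Fin n → Scheme.{u}) (z : ↑(∐ Y)) :
    ∃ (j : Fin n) (y : Y j), Sigma.ι Y j y = z :=
  (sigmaOpenCover Y).exists_eq z

theorem exists_good_of_unramified (f : X ⟶ S) [LocallyOfFiniteType f] [FormallyUnramified f]
    (x : X) :
    ∃ (U : Scheme.{u}) (g : U ⟶ S) (u : U), Etale g ∧ g u = f x ∧
      Good @IsClosedImmersion f x g u := by
  obtain ⟨U, g, u, hg, V, v, hvV, hfin, hv, huniq, hvx, hvb⟩ :=
    Groth.Agent.Flat2D.EtNbhd.exists_split f x (quasiFiniteAt_of_unramified f x)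
  have hunr : FormallyUnramified (V.ι ≫ pullback.snd f g) := by
    have : FormallyUnramified (pullback.snd f g) :=
      MorphismProperty.of_isPullback (P := @FormallyUnramified) (IsPullback.of_hasPullback f g)
        inferInstance
    exact MorphismProperty.comp_mem (W := @FormallyUnramified) _ _ inferInstance this
  obtain ⟨U', h, hh, u', hu', n, Y, c, hc, a, H⟩ :=
    Groth.Agent.Etbase.UnramSplitScheme.general_case (V.ι ≫ pullback.snd f g) u
  have hu'' : h u' = u := hu'
  have hge : Etale g := hg.etale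
  have hgu : g u = f x := hg.base_eq
  have hπ := isPullback_bc f g h
  let b : (∐ Y) ⟶ pullback f (h ≫ g) := hπ.lift (a ≫ V.ι) (Sigma.desc c) (by
    rw [Category.assoc]; exact H.w)
  have hb1 : b ≫ bc f g h = a ≫ V.ι := hπ.lift_fst _ _ _
  have hb2 : b ≫ pullback.snd f (h ≫ g) = Sigma.desc c := hπ.lift_snd _ _ _
  have hb : IsPullback b a (bc f g h) V.ι := by
    refine IsPullback.of_right (h₁₂ := pullback.snd f (h ≫ g)) (v₁₃ := h)
      (h₂₂ := pullback.snd f g) ?_ hb1 hπ.flip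
    rw [hb2]
    exact H.flip
  have hbo : IsOpenImmersion b := MorphismProperty.of_isPullback (P := @IsOpenImmersion) hb.flip
    inferInstance
  have hbj : ∀ j, IsOpenImmersion (Sigma.ι Y j ≫ b) := fun j => inferInstance
  have hbc : ∀ j, (Sigma.ι Y j ≫ b) ≫ pullback.snd f (h ≫ g) = c j := by
    intro j
    rw [Category.assoc, hb2, Sigma.ι_desc]
  have hsnd : ∀ w : ↑(pullback f (h ≫ g)), pullback.snd f (h ≫ g) w = u' →
      pullback.snd f g (bc f g h w) = u := by
    intro w hw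
    rw [← Scheme.Hom.comp_apply, bc_snd, Scheme.Hom.comp_apply, hw, hu'']
  refine ⟨U', h ≫ g, u', inferInstance, ?_, {j : Fin n // ∃ y : Y j, c j y = u'}, inferInstance,
    fun k => (Sigma.ι Y k.1 ≫ b).opensRange, ?_, ?_, ?_, ?_, ?_⟩
  · rw [Scheme.Hom.comp_apply, hu'', hgu]
  · rintro ⟨j, hj⟩
    rw [← MorphismProperty.cancel_left_of_respectsIso @IsClosedImmersion
      (Scheme.Hom.isoOpensRange (Sigma.ι Y j ≫ b)).hom, Scheme.Hom.isoOpensRange_hom_ι_assoc, hbc]
    exact hc j
  · rintro ⟨j, y, hy⟩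
    refine ⟨(Sigma.ι Y j ≫ b) y, ⟨y, rfl⟩, ?_⟩
    rw [← Scheme.Hom.comp_apply, hbc, hy]
  · rintro ⟨j, hj⟩ w ⟨y, hyw⟩ hwu
    change (Sigma.ι Y j ≫ b) y = w at hyw
    rw [← bc_fst, Scheme.Hom.comp_apply, ← hvx]
    congr 1
    refine huniq _ ?_ (hsnd w hwu)
    rw [← hyw, Scheme.Hom.comp_apply, ← Scheme.Hom.comp_apply b, hb1, Scheme.Hom.comp_apply]
    exact (a (Sigma.ι Y j y)).2
  · rintro ⟨j, hj⟩ ⟨j', hj'⟩ w ⟨y, hyw⟩ ⟨y', hyw'⟩ hwu
    change (Sigma.ι Y j ≫ b) y = w at hyw
    change (Sigma.ι Y j' ≫ b) y' = w at hyw'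
    rw [← hyw', Scheme.Hom.comp_apply, Scheme.Hom.comp_apply] at hyw
    have h1 := b.isOpenEmbedding.injective hyw
    rw [sigmaι_eq_iff] at h1
    cases h1
    rfl
  · intro w hwu hwx
    rw [← bc_fst, Scheme.Hom.comp_apply] at hwx
    obtain ⟨x', hx'1, hx'2, hx'3, -⟩ := Groth.Agent.Flat2D.EtNbhd.exists_unique_point
      (IsPullback.of_hasPullback f g) u x hgu.symm hg.residue_bijective
    have hw1 : bc f g h w = v :=
      (hx'3 _ hwx (hsnd w hwu)).trans (hx'3 v hvx hv).symm
    obtain ⟨z, hz1, hz2⟩ := exists_point hb w (⟨v, hvV⟩ : V) hw1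
    obtain ⟨j, y, rfl⟩ := exists_sigma Y z
    refine ⟨⟨j, y, ?_⟩, y, ?_⟩
    · rw [← hbc, Scheme.Hom.comp_apply, Scheme.Hom.comp_apply]
      change pullback.snd f (h ≫ g) (b (Sigma.ι Y j y)) = u'
      have : b (Sigma.ι Y j y) = w := hz1
      rw [this, hwu]
    · change (Sigma.ι Y j ≫ b) y = w
      rw [Scheme.Hom.comp_apply]
      exact hz1

end K590.EtGood
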