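import Mathlib.RingTheory.Kaehler.Basic
import Mathlib.LinearAlgebra.TensorProduct.RightExactness

/-!
# The kernel of `Ω_{P/A} → Ω_{B/A}` for `P → B` surjective
-/

set_option autoImplicit false
universe u v w

open TensorProduct KaehlerDifferential

namespace K590.KaehlerKer

variable {A : Type u} {P : Type v} {B : Type w} [CommRing A] [CommRing P] [CommRing B] [Algebra A P]
  [Algebra P B] [Algebra A B] [IsScalarTower A P B]

omit [Algebra A B] [IsScalarTower A P B] in
theorem smul_mem_span (g : P) (hg : g ∈ RingHom.ker (algebraMap P B)) (m : Ω[P⁄A]) :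
    g • m ∈ Submodule.span P (D A P '' (RingHom.ker (algebraMap P B) : Set P)) := by
  have hm : m ∈ Submodule.span P (Set.range (D A P)) := by
    rw [KaehlerDifferential.span_range_derivation]; trivial
  induction hm using Submodule.span_induction with
  | mem x hx =>
    obtain ⟨h, rfl⟩ := hx
    have h1 : g • D A P h = D A P (g * h) - h • D A P g := by
      rw [Derivation.leibniz]; abel
    rw [h1]
    refine sub_mem (Submodule.subset_span ⟨g * h, ?_, rfl⟩)
      (Submodule.smul_mem _ _ (Submodule.subset_span ⟨g, hg, rfl⟩))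
    exact Ideal.mul_mem_right _ _ hg
  | zero => simp
  | add x y _ _ hx hy => rw [smul_add]; exact add_mem hx hy
  | smul a x _ hx => rw [smul_comm]; exact Submodule.smul_mem _ _ hx

/-- If `P → B` is surjective, the kernel of `Ω_{P/A} → Ω_{B/A}` is the `P`-span of the
differentials of the elements of the kernel of `P → B`. -/
theorem ker_map_eq_span (h : Function.Surjective (algebraMap P B)) :
    LinearMap.ker (KaehlerDifferential.map A A P B) =
      Submodule.span P (D A P '' (RingHom.ker (algebraMap P B) : Set P)) := by
  apply le_antisymm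
  · intro m hm
    have h1 : KaehlerDifferential.mapBaseChange A P B ((1 : B) ⊗ₜ[P] m) = 0 := by
      rw [KaehlerDifferential.mapBaseChange_tmul, one_smul]; exact hm
    obtain ⟨z, hz⟩ := (KaehlerDifferential.exact_kerCotangentToTensor_mapBaseChange A P B h _).mp h1
    obtain ⟨g, rfl⟩ := Ideal.toCotangent_surjective _ z
    rw [KaehlerDifferential.kerCotangentToTensor_toCotangent] at hz
    have h2 : (1 : B) ⊗ₜ[P] (m - D A P g.1) = 0 := by
      rw [TensorProduct.tmul_sub, hz, sub_self]
    have hex : Function.Exact (RingHom.ker (algebraMap P B)).subtype (Algebra.linearMap P B) := by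
      intro x
      constructor
      · intro hx; exact ⟨⟨x, hx⟩, rfl⟩
      · rintro ⟨y, rfl⟩; exact y.2
    have h3 := rTensor_exact Ω[P⁄A] hex h
    have h4 : LinearMap.rTensor Ω[P⁄A] (Algebra.linearMap P B) ((1 : P) ⊗ₜ[P] (m - D A P g.1)) = 0 := by
      rw [LinearMap.rTensor_tmul, Algebra.linearMap_apply, map_one]
      exact h2
    obtain ⟨w, hw⟩ := (h3 _).mp h4
    have h5 : m - D A P g.1 ∈
        Submodule.span P (D A P '' (RingHom.ker (algebraMap P B) : Set P)) := by
      have h6 : TensorProduct.lid P Ω[P⁄A] ((1 : P) ⊗ₜ[P] (m - D A P g.1)) = m - D A P g.1 := by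
        simp
      rw [← h6, ← hw]
      clear hw h6 h4 h2 hz
      induction w using TensorProduct.induction_on with
      | zero => simp
      | add x y hx hy => rw [map_add, map_add]; exact add_mem hx hy
      | tmul x y =>
        rw [LinearMap.rTensor_tmul, TensorProduct.lid_tmul]
        exact smul_mem_span _ x.2 y
    have h7 := add_mem h5 (Submodule.subset_span ⟨g.1, g.2, rfl⟩)
    rwa [sub_add_cancel] at h7
  · rw [Submodule.span_le]
    rintro _ ⟨g, hg, rfl⟩
    change KaehlerDifferential.map A A P B (D A P g) = 0
    rw [KaehlerDifferential.map_D, RingHom.mem_ker.mp hg, map_zero]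

end K590.KaehlerKer
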