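import Mathlib.RingTheory.Unramified.LocalStructure
import Mathlib.RingTheory.Unramified.LocalRing
import Mathlib.RingTheory.EssentialFiniteness
import Mathlib.RingTheory.Etale.Locus

/-!
# Local structure of unramified and étale local homomorphisms
-/

set_option autoImplicit false
universe u

open IsLocalRing

namespace K590.LocalHom

/-- Local structure of unramified local algebras: an essentially finite type, formally unramified
local `A`-algebra is (up to localization) a quotient of a standard étale `A`-algebra. -/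
theorem exists_pair (A C : Type u) [CommRing A] [CommRing C] [IsLocalRing C]
    [Algebra A C] [Algebra.EssFiniteType A C] [Algebra.FormallyUnramified A C] :
    ∃ (P : StandardEtalePair A) (χ : P.Ring →ₐ[A] C),
      ∀ c : C, ∃ e s : P.Ring, IsUnit (χ s) ∧ c * χ s = χ e := by
  let C₀ := Algebra.EssFiniteType.subalgebra A C
  let M := Algebra.EssFiniteType.submonoid A C
  let 𝔠 : Ideal C₀ := (maximalIdeal C).comap (algebraMap C₀ C)
  have hprime : 𝔠.IsPrime := Ideal.comap_isPrime _ _
  have hM : 𝔠.primeCompl = M := by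
    ext x
    change ¬ (algebraMap C₀ C x ∈ maximalIdeal C) ↔ IsUnit (algebraMap C₀ C x)
    simp [mem_maximalIdeal]
  have hloc : IsLocalization.AtPrime C 𝔠 := by
    change IsLocalization 𝔠.primeCompl C
    rw [hM]
    exact Algebra.EssFiniteType.isLocalization A C
  let e : C ≃ₐ[C₀] Localization.AtPrime 𝔠 := IsLocalization.algEquiv 𝔠.primeCompl _ _
  have hun : Algebra.IsUnramifiedAt A 𝔠 :=
    Algebra.FormallyUnramified.of_equiv (e.restrictScalars A)
  obtain ⟨f, hf, P, φ, hφ⟩ := Algebra.IsUnramifiedAt.exists_hasStandardEtaleSurjectionOn (R := A) 𝔠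
  have hfu : IsUnit (algebraMap C₀ C f) := by
    by_contra h
    exact hf ((mem_maximalIdeal _).mpr h)
  let g : Localization.Away f →+* C := IsLocalization.Away.lift f hfu
  have hg : ∀ x, g (algebraMap C₀ (Localization.Away f) x) = algebraMap C₀ C x :=
    fun x => IsLocalization.Away.lift_eq f hfu x
  let g' : Localization.Away f →ₐ[A] C :=
    { g with
      commutes' := fun r => by
        change g (algebraMap A _ r) = _
        rw [IsScalarTower.algebraMap_apply A C₀ (Localization.Away f), hg,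
          ← IsScalarTower.algebraMap_apply A C₀ C] }
  have hg' : ∀ x, g' (algebraMap C₀ (Localization.Away f) x) = algebraMap C₀ C x := hg
  refine ⟨P, g'.comp φ, ?_⟩
  intro c
  obtain ⟨⟨x, s⟩, hxs⟩ := IsLocalization.surj 𝔠.primeCompl c
  obtain ⟨a, ha⟩ := hφ (algebraMap C₀ _ x)
  obtain ⟨b, hb⟩ := hφ (algebraMap C₀ _ s)
  refine ⟨a, b, ?_, ?_⟩
  · rw [AlgHom.comp_apply, hb, hg']
    exact IsLocalization.map_units C s
  · rw [AlgHom.comp_apply, AlgHom.comp_apply, ha, hb, hg', hg']
    exact hxs

/-- If every element of the local ring `C` is a fraction of elements of `E`, then `C` is a quotient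
of the localization of `E` at the preimage of the maximal ideal. -/
theorem exists_algEquiv_quotient {A E C : Type u} [CommRing A] [CommRing E] [CommRing C]
    [IsLocalRing C] [Algebra A E] [Algebra A C] (χ : E →ₐ[A] C)
    (h : ∀ c : C, ∃ e s : E, IsUnit (χ s) ∧ c * χ s = χ e) :
    ∃ (𝔮 : Ideal E) (_ : 𝔮.IsPrime) (I : Ideal (Localization.AtPrime 𝔮)),
      Nonempty (C ≃ₐ[A] (Localization.AtPrime 𝔮 ⧸ I)) := by
  let 𝔮 : Ideal E := (maximalIdeal C).comap χ.toRingHom
  have h𝔮 : 𝔮.IsPrime := Ideal.comap_isPrime _ _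
  have hu : ∀ y : 𝔮.primeCompl, IsUnit (χ y) := by
    rintro ⟨y, hy⟩
    by_contra hc
    exact hy ((mem_maximalIdeal _).mpr hc)
  let ψ : Localization.AtPrime 𝔮 →ₐ[A] C :=
    IsLocalization.liftAlgHom (M := 𝔮.primeCompl) (f := χ) hu
  have hψ : ∀ x, ψ (algebraMap E _ x) = χ x := fun x => IsLocalization.lift_eq _ x
  have hsurj : Function.Surjective ψ := by
    intro c
    obtain ⟨e, s, hs, hes⟩ := h c
    have hs' : s ∈ 𝔮.primeCompl := by
      intro hc
      exact (mem_nonunits_iff.mp ((mem_maximalIdeal _).mp hc)) hs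
    refine ⟨IsLocalization.mk' _ e (⟨s, hs'⟩ : 𝔮.primeCompl), ?_⟩
    have h1 := congrArg ψ (IsLocalization.mk'_spec (Localization.AtPrime 𝔮) e
      (⟨s, hs'⟩ : 𝔮.primeCompl))
    rw [map_mul, hψ, hψ, ← hes] at h1
    exact hs.mul_left_injective h1
  exact ⟨𝔮, h𝔮, RingHom.ker ψ, ⟨(Ideal.quotientKerAlgEquivOfSurjective hsurj).symm⟩⟩

end K590.LocalHom
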