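import Mathlib.RingTheory.Localization.LocalizationLocalization
import Groth.Agent.UnramA.FlatUnramAt
import Groth.Agent.EtLocal.K590.LocalHom

/-!
# Local structure of étale local homomorphisms
-/

set_option autoImplicit false
universe u

open IsLocalRing

namespace K590.LocalHomEtale

/-- Local structure of étale local algebras over Noetherian rings: an essentially finite type,
flat, formally unramified local `A`-algebra is a localization of a standard étale `A`-algebra. -/
theorem exists_pair_localization (A C : Type u) [CommRing A] [IsNoetherianRing A] [CommRing C]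
    [IsLocalRing C] [Algebra A C] [Algebra.EssFiniteType A C] [Algebra.FormallyUnramified A C]
    [Module.Flat A C] :
    ∃ (P : StandardEtalePair A) (𝔮 : Ideal P.Ring) (_ : 𝔮.IsPrime),
      Nonempty (C ≃ₐ[A] Localization.AtPrime 𝔮) := by
  let C₀ := Algebra.EssFiniteType.subalgebra A C
  let M := Algebra.EssFiniteType.submonoid A C
  let 𝔠 : Ideal C₀ := (maximalIdeal C).comap (algebraMap C₀ C)
  have hprime : 𝔠.IsPrime := Ideal.comap_isPrime _ _
  have hM : 𝔠.primeCompl = M := by
    ext x
    change ¬ (algebraMap C₀ C x ∈ maximalIdeal C) ↔ IsUnit (algebraMap C₀ C x)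
    simp [mem_maximalIdeal]
  have hloc : IsLocalization.AtPrime C 𝔠 := by
    change IsLocalization 𝔠.primeCompl C
    rw [hM]
    exact Algebra.EssFiniteType.isLocalization A C
  let e : C ≃ₐ[C₀] Localization.AtPrime 𝔠 := IsLocalization.algEquiv 𝔠.primeCompl _ _
  have hun : Algebra.IsUnramifiedAt A 𝔠 :=
    Algebra.FormallyUnramified.of_equiv (e.restrictScalars A)
  have hfl : Module.Flat A (Localization.AtPrime 𝔠) :=
    Module.Flat.of_linearEquiv (e.restrictScalars A).symm.toLinearEquiv
  have hfp : Algebra.FinitePresentation A C₀ :=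
    Algebra.FinitePresentation.of_finiteType.mp inferInstance
  have het : Algebra.IsEtaleAt A 𝔠 :=
    Groth.Agent.UnramA.FlatUnramAt.isEtaleAt_of_isUnramifiedAt_of_flat 𝔠 hfl
  obtain ⟨f, hf, hst⟩ := Algebra.IsEtaleAt.exists_isStandardEtale (R := A) 𝔠
  obtain ⟨P⟩ := (inferInstance : Nonempty (StandardEtalePresentation A (Localization.Away f)))
  have hfu : IsUnit (algebraMap C₀ C f) := by
    by_contra h
    exact hf ((mem_maximalIdeal _).mpr h)
  let L := Localization.Away f
  let algLC : Algebra L C := (IsLocalization.Away.lift f hfu : L →+* C).toAlgebra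
  have hLC : IsScalarTower C₀ L C :=
    .of_algebraMap_eq' (IsLocalization.Away.lift_comp f hfu).symm
  have hALC : IsScalarTower A L C := .to₁₃₄ A C₀ L C
  have h1 : IsLocalization (𝔠.primeCompl.map (algebraMap C₀ L)) C :=
    IsLocalization.isLocalization_of_submonoid_le L C (.powers f) 𝔠.primeCompl (by
      rw [Submonoid.powers_le]; exact hf)
  let 𝔩 : Ideal L := (maximalIdeal C).comap (algebraMap L C)
  have h𝔩 : 𝔩.IsPrime := Ideal.comap_isPrime _ _
  have h2 : IsLocalization 𝔩.primeCompl C := by
    refine IsLocalization.of_le (𝔠.primeCompl.map (algebraMap C₀ L)) 𝔩.primeCompl ?_ ?_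
    · rintro _ ⟨x, hx, rfl⟩
      change ¬ (algebraMap L C (algebraMap C₀ L x) ∈ maximalIdeal C)
      rw [← IsScalarTower.algebraMap_apply]
      exact hx
    · intro x hx
      by_contra hc
      exact hx ((mem_maximalIdeal _).mpr hc)
  let ε : L ≃ₐ[A] P.P.Ring := P.equivRing
  let 𝔮 : Ideal P.P.Ring := 𝔩.comap (ε.symm : P.P.Ring →+* L)
  have h𝔮 : 𝔮.IsPrime := Ideal.comap_isPrime _ _
  refine ⟨P.P, 𝔮, h𝔮, ⟨IsLocalization.algEquivOfAlgEquiv (M := 𝔩.primeCompl)
    (T := 𝔮.primeCompl) C (Localization.AtPrime 𝔮) ε ?_⟩⟩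
  ext x
  constructor
  · rintro ⟨y, hy, rfl⟩
    change ¬ (ε.symm (ε y) ∈ 𝔩)
    rw [ε.symm_apply_apply]
    exact hy
  · intro hx
    exact ⟨ε.symm x, hx, ε.apply_symm_apply x⟩

end K590.LocalHomEtale
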