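import Mathlib.AlgebraicGeometry.Morphisms.Etale
import Mathlib.RingTheory.Unramified.LocalStructure

/-!
# Standard étale algebras are open in monogenic ones
-/

set_option autoImplicit false
universe u

open AlgebraicGeometry CategoryTheory Polynomial

namespace K590.Monogenic

/-- If `C` is a standard étale `R`-algebra, then there is a monic `p` and a map of `R`-algebras
from `(R[t]/p)[1/p']` to `C` which is an open immersion on spectra. -/
theorem exists_openImmersion_away {R C : Type u} [CommRing R] [CommRing C] [Algebra R C]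
    [Algebra.IsStandardEtale R C] :
    ∃ (p : R[X]) (_ : p.Monic)
      (ψ : Localization.Away (AdjoinRoot.mk p (derivative p)) →+* C),
      ψ.comp (algebraMap R _) = algebraMap R C ∧
      IsOpenImmersion (Spec.map (CommRingCat.ofHom ψ)) := by
  obtain ⟨P⟩ := (inferInstance : Nonempty (StandardEtalePresentation R C))
  let A := AdjoinRoot P.f
  let L := Localization.Away (AdjoinRoot.mk P.f P.g)
  let e : C ≃ₐ[R] L := P.equivRing.trans P.P.equivAwayAdjoinRoot
  let α : A →+* C := (e.symm : L →+* C).comp (algebraMap A L)
  have hα : IsOpenImmersion (Spec.map (CommRingCat.ofHom α)) := by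
    have h1 : CommRingCat.ofHom α = CommRingCat.ofHom (algebraMap A L) ≫
        (e.symm.toRingEquiv.toCommRingCatIso).hom := rfl
    rw [h1, Spec.map_comp]
    infer_instance
  have hu : IsUnit (α (AdjoinRoot.mk P.f (derivative P.f))) := by
    obtain ⟨p₁, p₂, n, h⟩ := P.cond
    have h2 : AdjoinRoot.mk P.f (derivative P.f) * AdjoinRoot.mk P.f p₁ =
        AdjoinRoot.mk P.f P.g ^ n := by
      rw [← map_pow, ← h, map_add, map_mul, map_mul, AdjoinRoot.mk_self, zero_mul, add_zero]
    have h3 : IsUnit (α (AdjoinRoot.mk P.f P.g ^ n)) := by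
      rw [map_pow]
      refine IsUnit.pow _ ?_
      exact (IsLocalization.Away.algebraMap_isUnit (S := L) (AdjoinRoot.mk P.f P.g)).map
        (e.symm : L →+* C)
    rw [← h2, map_mul] at h3
    exact isUnit_of_mul_isUnit_left h3
  let ψ : Localization.Away (AdjoinRoot.mk P.f (derivative P.f)) →+* C :=
    IsLocalization.Away.lift (AdjoinRoot.mk P.f (derivative P.f)) hu
  have hψ : ψ.comp (algebraMap A _) = α := IsLocalization.Away.lift_comp _ hu
  refine ⟨P.f, P.monic_f, ψ, ?_, ?_⟩
  · rw [IsScalarTower.algebraMap_eq R A (Localization.Away (AdjoinRoot.mk P.f (derivative P.f))),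
      ← RingHom.comp_assoc, hψ]
    ext r
    simp only [α, RingHom.comp_apply, ← IsScalarTower.algebraMap_apply R A L]
    exact e.symm.commutes r
  · have h4 : Spec.map (CommRingCat.ofHom ψ) ≫
        Spec.map (CommRingCat.ofHom
          (algebraMap A (Localization.Away (AdjoinRoot.mk P.f (derivative P.f))))) =
        Spec.map (CommRingCat.ofHom α) := by
      rw [← Spec.map_comp, ← CommRingCat.ofHom_comp, hψ]
    have h5 : IsOpenImmersion (Spec.map (CommRingCat.ofHom ψ) ≫
        Spec.map (CommRingCat.ofHom
          (algebraMap A (Localization.Away (AdjoinRoot.mk P.f (derivative P.f)))))) := by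
      rw [h4]; exact hα
    exact IsOpenImmersion.of_comp _ (Spec.map (CommRingCat.ofHom
          (algebraMap A (Localization.Away (AdjoinRoot.mk P.f (derivative P.f))))))

end K590.Monogenic
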