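import Mathlib.AlgebraicGeometry.Morphisms.Etale
import Mathlib.AlgebraicGeometry.ResidueField
import Mathlib.RingTheory.Unramified.LocalRing

/-!
# Unramified local homomorphisms: the stalk map criterion
-/

set_option autoImplicit false
universe u

open AlgebraicGeometry CategoryTheory

namespace K590.StalkCrit

/-- For `f` locally of finite type, the stalk map of `f` at `x` is formally unramified iff the
maximal ideal of `O_{Y,f x}` generates that of `O_{X,x}` and the residue field extension is finite
separable. -/
theorem formallyUnramified_stalkMap_iff {X Y : Scheme.{u}} (f : X ⟶ Y) [LocallyOfFiniteType f]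
    (x : X) :
    (f.stalkMap x).hom.FormallyUnramified ↔
      ((IsLocalRing.maximalIdeal (Y.presheaf.stalk (f.base x))).map (f.stalkMap x).hom =
          IsLocalRing.maximalIdeal (X.presheaf.stalk x) ∧
        letI := (f.residueFieldMap x).hom.toAlgebra
        Module.Finite (Y.residueField (f.base x)) (X.residueField x) ∧
          Algebra.IsSeparable (Y.residueField (f.base x)) (X.residueField x)) := by
  have hess : (f.stalkMap x).hom.EssFiniteType := LocallyOfFiniteType.stalkMap f x
  let R := Y.presheaf.stalk (f.base x)
  let S := X.presheaf.stalk x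
  let algRS : Algebra R S := (f.stalkMap x).hom.toAlgebra
  have : IsLocalHom (algebraMap R S) := inferInstanceAs (IsLocalHom (f.stalkMap x).hom)
  have : Algebra.EssFiniteType R S := hess
  have h1 : (f.stalkMap x).hom.FormallyUnramified ↔ Algebra.FormallyUnramified R S := Iff.rfl
  rw [h1, Algebra.FormallyUnramified.iff_map_maximalIdeal_eq]
  have halg : (f.residueFieldMap x).hom.toAlgebra =
      (inferInstance : Algebra (IsLocalRing.ResidueField R) (IsLocalRing.ResidueField S)) := by
    apply Algebra.algebra_ext
    intro r
    obtain ⟨r, rfl⟩ := IsLocalRing.residue_surjective r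
    change f.residueFieldMap x (Y.residue (f x) r) = X.residue x (f.stalkMap x r)
    rw [← CategoryTheory.comp_apply, Scheme.residue_residueFieldMap]
    rfl
  constructor
  · rintro ⟨h2, h3⟩
    have h4 : Algebra.FormallyUnramified R S :=
      Algebra.FormallyUnramified.iff_map_maximalIdeal_eq.mpr ⟨h2, h3⟩
    have h5 : Module.Finite (IsLocalRing.ResidueField R) (IsLocalRing.ResidueField S) :=
      inferInstance
    refine ⟨h3, ?_⟩
    rw [halg]
    exact ⟨h5, h2⟩
  · rintro ⟨h2, h3⟩
    rw [halg] at h3
    exact ⟨h3.2, h2⟩

end K590.StalkCrit
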